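import Cfsg.Agent.H6.MRep
import Cfsg.Agent.H6.PG

/-! Ten elements of order three whose products in pairs are involutions. -/

set_option autoImplicit false
set_option maxRecDepth 100000

namespace Cfsg.H6.Carm

variable {G : Type*} [Group G]

/-- The first letters. -/
def L : ℕ → List (List ℕ)
  | 0 => []
  | n + 1 => [n + 1] :: L n

theorem mem_L {n : ℕ} {w : List ℕ} : w ∈ L n ↔ ∃ i < n, w = [i + 1] := by
  induction n with
  | zero => simp [L]
  | succ n ih =>
    rw [L, List.mem_cons, ih]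
    exact ⟨fun h => h.elim (fun e => ⟨n, by omega, e⟩) fun ⟨i, a, b⟩ => ⟨i, by omega, b⟩,
      fun ⟨i, a, b⟩ => (Nat.lt_succ_iff_lt_or_eq.mp a).symm.imp (fun e => by rw [b, e]) fun e => ⟨i, e, b⟩⟩

theorem step (x : ℕ → G) (n : ℕ) (h3 : ∀ i ≤ n, x (i + 1) ^ 3 = 1)
    (h2 : ∀ i ≤ n, ∀ j < i, (x (i + 1) * x (j + 1)) ^ 2 = 1) :
    Cover (gen x (L n)) (gen x (L (n + 1))) (n + 3) := by
  have hm : ∀ i < n, x (i + 1) ∈ gen x (L n) := fun i hi =>
    evL_singleton x _ ▸ evL_mem_gen x (mem_L.mpr ⟨i, hi, rfl⟩)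
  generalize gen x (L n) = H at hm ⊢
  obtain ⟨p, hp⟩ : ∃ p : G ⧸ H, p = ((1 : G) : G ⧸ H) := ⟨_, rfl⟩
  obtain ⟨y, hy⟩ : ∃ y, y = x (n + 1) := ⟨_, rfl⟩
  have c3 : ∀ i ≤ n, ∀ q : G ⧸ H, x (i + 1) • x (i + 1) • x (i + 1) • q = q := fun i hi q => by
    rw [← mul_smul, ← mul_smul, ← pow_three', h3 i hi, one_smul]
  have c2 : ∀ i ≤ n, ∀ j ≤ n, i ≠ j → ∀ q : G ⧸ H,
      x (i + 1) • x (j + 1) • x (i + 1) • x (j + 1) • q = q := fun i hi j hj e q => by
    rw [← mul_smul (x (i + 1)) (x (j + 1)) q, ← mul_smul, ← mul_smul, ← pow_two]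
    rcases lt_or_gt_of_ne e with h | h
    · rw [show (x (i + 1) * x (j + 1)) ^ 2 =
        (x (j + 1))⁻¹ * (x (j + 1) * x (i + 1)) ^ 2 * x (j + 1) by rw [pow_two, pow_two]; group,
        h2 j hj i h]
      simp
    · rw [h2 i hi j h, one_smul]
  have cy := c3 n le_rfl
  rw [← hy] at cy
  have e0 : ∀ i < n, x (i + 1) • p = p := fun i hi => by
    rw [hp, MulAction.Quotient.smul_mk, QuotientGroup.eq]
    simpa using hm i hi
  have e1 : ∀ i < n, x (i + 1) • y • p = y • y • p := fun i hi => smul_left_cancel y (by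
    have := c2 n le_rfl i hi.le hi.ne' p
    rw [e0 i hi, ← hy] at this
    rw [this, cy])
  have e2 : ∀ i < n, x (i + 1) • x (i + 1) • y • y • p = y • p := fun i hi => by
    rw [← e1 i hi, c3 i hi.le]
  let W : G ⧸ H → Prop := fun q =>
    q = p ∨ q = y • p ∨ q = y • y • p ∨ ∃ i < n, q = x (i + 1) • y • y • p
  have st : ∀ i ≤ n, ∀ q, W q → W (x (i + 1) • q) := fun i hi q hq => by
    rcases hi.eq_or_lt with rfl | hi
    · rw [← hy]
      rcases hq with rfl | rfl | rfl | ⟨z, hz, rfl⟩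
      · exact Or.inr (Or.inl rfl)
      · exact Or.inr (Or.inr (Or.inl rfl))
      · exact Or.inl (cy _)
      · have := c2 z hz.le i le_rfl hz.ne (y • y • p)
        rw [← hy, cy, e0 z hz] at this
        have a := c2 z hz.le i le_rfl hz.ne (y • p)
        rw [← hy] at a
        rw [smul_left_cancel _ (a.trans (e2 z hz).symm)]
        exact Or.inr (Or.inr (Or.inr ⟨z, hz, rfl⟩))
    · rcases hq with rfl | rfl | rfl | ⟨z, hz, rfl⟩
      · exact Or.inl (e0 i hi)
      · exact Or.inr (Or.inr (Or.inl (e1 i hi)))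
      · exact Or.inr (Or.inr (Or.inr ⟨i, hi, rfl⟩))
      · by_cases e : z = i
        · exact Or.inr (Or.inl (e ▸ e2 z hz))
        · have := c2 z hz.le i hi.le e (y • p)
          rw [e1 i hi] at this
          rw [smul_left_cancel _ (this.trans (e2 z hz).symm)]
          exact Or.inr (Or.inr (Or.inr ⟨z, hz, rfl⟩))
  have key : ∀ g ∈ gen x (L (n + 1)), ∀ q, W q → W (g • q) := fun g hg => by
    induction hg using Subgroup.closure_induction'' with
    | mem g h =>
      obtain ⟨w, hw, rfl⟩ := h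
      obtain ⟨i, hi, rfl⟩ := mem_L.mp hw
      rw [evL_singleton]
      exact st i (by omega)
    | inv_mem g h =>
      obtain ⟨w, hw, rfl⟩ := h
      obtain ⟨i, hi, rfl⟩ := mem_L.mp hw
      intro q hq
      rw [evL_singleton, inv_eq_of_mul_eq_one_right ((pow_three _).symm.trans (h3 i (by omega))),
        mul_smul]
      exact st i (by omega) _ (st i (by omega) q hq)
    | one => simp
    | mul a b _ _ ha hb => exact fun q hq => mul_smul a b q ▸ ha _ (hb q hq)
  refine ⟨fun j => if j < n then (x (j + 1) * (y * y))⁻¹ else (y ^ (j - n))⁻¹, fun g hg => ?_⟩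
  have fin : ∀ r : G, g⁻¹ • p = r • p → g * r⁻¹⁻¹ ∈ H := fun r e => by
    rw [hp, MulAction.Quotient.smul_mk, MulAction.Quotient.smul_mk, QuotientGroup.eq] at e
    simpa using e
  rcases key _ (Subgroup.inv_mem _ hg) p (Or.inl rfl) with e | e | e | ⟨i, hi, e⟩
  · exact ⟨n, by omega, by beta_reduce; rw [if_neg (by omega)]; exact fin _ (by simpa using e)⟩
  · exact ⟨n + 1, by omega, by beta_reduce; rw [if_neg (by omega)]; exact fin _ (by simpa using e)⟩
  · exact ⟨n + 2, by omega, by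
      beta_reduce; rw [if_neg (by omega)]; exact fin _ (by simpa [pow_two, mul_smul] using e)⟩
  · exact ⟨i, by omega, by beta_reduce; rw [if_pos hi]; exact fin _ (by simpa [mul_smul] using e)⟩

/-- The three-cycles. -/
def c (x : ℕ) : alternatingGroup (Fin 12) :=
  ⟨Equiv.swap 11 (Fin.ofNat 12 (x - 1)) * Equiv.swap 10 (Fin.ofNat 12 (x - 1)) *
    (Equiv.swap 11 (Fin.ofNat 12 (x - 1)) * Equiv.swap 10 (Fin.ofNat 12 (x - 1))), by
    rw [Equiv.Perm.mem_alternatingGroup, map_mul]; exact Int.units_mul_self _⟩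

/-- The table of the three-cycles. -/
def tab (x p : ℕ) : ℕ := if p = x - 1 then 10 else if p = 10 then 11 else if p = 11 then x - 1 else p

theorem lab : Lab (alternatingGroup (Fin 12)).subtype c (Fin.ofNat 12) tab 12 11 :=
  ⟨fun x h1 h2 => by interval_cases x <;> decide +kernel, by decide +kernel⟩

theorem v1 : dvChk tab 12 11 0 [[1]] (L 0) [0,10,11] (unp 2 (nat_lit 0xa0000000000)) = true := by
  decide +kernel

theorem v2 : dvChk tab 12 11 1 [[2]] (L 1) [0,1,10,11] (unp 3 (nat_lit 0xb0100000a0000000100)) = true := by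
  decide +kernel

theorem v3 : dvChk tab 12 11 2 [[3]] (L 2) [0,1,2,10,11] (unp 4 (nat_lit 0xb0200000b0100000a0000000200)) = true := by
  decide +kernel

theorem v4 : dvChk tab 12 11 3 [[4]] (L 3) [0,1,2,3,10,11] (unp 5 (nat_lit 0xb0300000b0200000b0100000a0000000300)) = true := by
  decide +kernel

theorem v5 : dvChk tab 12 11 4 [[5]] (L 4) [0,1,2,3,4,10,11] (unp 6 (nat_lit 0xb0400000b0300000b0200000b0100000a0000000400)) = true := by
  decide +kernel

theorem v6 : dvChk tab 12 11 5 [[6]] (L 5) [0,1,2,3,4,5,10,11] (unp 7 (nat_lit 0xb0500000b0400000b0300000b0200000b0100000a0000000500)) = true := by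
  decide +kernel

theorem v7 : dvChk tab 12 11 6 [[7]] (L 6) [0,1,2,3,4,5,6,10,11] (unp 8 (nat_lit 0xb0600000b0500000b0400000b0300000b0200000b0100000a0000000600)) = true := by
  decide +kernel

theorem v8 : dvChk tab 12 11 7 [[8]] (L 7) [0,1,2,3,4,5,6,7,10,11] (unp 9 (nat_lit 0xb0700000b0600000b0500000b0400000b0300000b0200000b0100000a0000000700)) = true := by
  decide +kernel

theorem v9 : dvChk tab 12 11 8 [[9]] (L 8) [0,1,2,3,4,5,6,7,8,10,11] (unp 10 (nat_lit 0xb0800000b0700000b0600000b0500000b0400000b0300000b0200000b0100000a0000000800)) = true := by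
  decide +kernel

theorem v10 : dvChk tab 12 11 9 [[10]] (L 9) [0,1,2,3,4,5,6,7,8,9,10,11] (unp 11 (nat_lit 0xb0900000b0800000b0700000b0600000b0500000b0400000b0300000b0200000b0100000a0000000900)) = true := by
  decide +kernel

theorem dv : 239500800 ∣ Nat.card (gen c (L 10)) :=
  Dvd.dvd.trans (by decide +kernel) (lab.dvd v10 (lab.dvd v9 (lab.dvd v8 (lab.dvd v7 (lab.dvd v6 (lab.dvd v5 (lab.dvd v4 (lab.dvd v3 (lab.dvd v2 (lab.dvd v1 (one_dvd _)))))))))))

theorem exists_alt (x : ℕ → G) (h : ∀ i < 10, x (i + 1) ^ 3 = 1 ∧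
    ∀ j < i, (x (i + 1) * x (j + 1)) ^ 2 = 1) (h1 : x 1 ≠ 1) :
    ∃ H : Subgroup G, Nonempty (H ≃* alternatingGroup (Fin 12)) := by
  let y : ℕ → G × alternatingGroup (Fin 12) := fun i => (x i, c i)
  have hc : ∀ i < 10, c (i + 1) ^ 3 = 1 ∧ ∀ j < i, (c (i + 1) * c (j + 1)) ^ 2 = 1 := by
    decide +kernel
  have ub : ∀ n ≤ 10, UB (gen y (L n)) ((n + 2).factorial / 2) := fun n => by
    induction n with
    | zero => exact fun _ => UB.bot
    | succ n ih =>
      intro hn
      have := (ih (by omega)).cover (step y n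
        (fun i hi => Prod.ext (h i (by omega)).1 (hc i (by omega)).1)
        fun i hi j hj => Prod.ext ((h i (by omega)).2 j hj) ((hc i (by omega)).2 j hj))
      refine ⟨this.1, this.2.trans (le_of_eq ?_)⟩
      have : n < 10 := hn
      interval_cases n <;> rfl
  obtain ⟨hf, hb⟩ := ub 10 le_rfl
  have ca : Nat.card (alternatingGroup (Fin 12)) = 239500800 := by
    rw [nat_card_alternatingGroup, Nat.card_fin]; rfl
  have top : gen c (L 10) = ⊤ :=
    Subgroup.eq_top_of_le_card _ (ca ▸ Nat.le_of_dvd Nat.card_pos dv)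
  let s := (MonoidHom.snd G _).comp (gen y (L 10)).subtype
  have sj : Function.Surjective s := fun a => by
    have : a ∈ (gen y (L 10)).map (MonoidHom.snd G _) := by
      rw [map_gen]; exact top ▸ Subgroup.mem_top a
    obtain ⟨b, hb, e⟩ := this
    exact ⟨⟨b, hb⟩, e⟩
  let e := MulEquiv.ofBijective s (sj.bijective_of_nat_card_le (ca ▸ hb))
  have := alternatingGroup.isSimpleGroup (α := Fin 12) (by simp)
  have := e.isSimpleGroup
  let f := (MonoidHom.fst G _).comp (gen y (L 10)).subtype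
  have fi : Function.Injective f := injective_of_simple f
    (x := ⟨evL y [1], evL_mem_gen y (mem_L.mpr ⟨0, by omega, rfl⟩)⟩) (by
      show (evL y [1]).1 ≠ 1
      rwa [evL_singleton])
  exact ⟨f.range, ⟨(MonoidHom.ofInjective fi).symm.trans e⟩⟩

end Cfsg.H6.Carm
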